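import Cfsg.Agent.Lib.CosetEnum.Fi22U6.Model
import Cfsg.Agent.Lib.CosetEnum.Fi22.Simple
import Cfsg.Agent.Lib.CosetEnum.Corr

/-!
The centraliser of a transposition of `Fi22` is a non-split double cover of `PSU₆(2)`.
-/

set_option autoImplicit false

namespace CfsgLib.CosetEnum.Fi22U6

open CfsgLib.CosetEnum

local notation "IP" => 18364758544493064720
local notation "G" => Cfsg.Spor.Fi22

/-- Generators of the point stabiliser. -/
def hgen (j : Fin 10) : G := (((Fi22.subWords.getD j.1 []).map Fi22.g).prod)⁻¹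

theorem π_hgen (j : Fin 10) (k : Fin 3510) : ((Fi22.π (hgen j) k : Fin 3510) : ℕ) = act Fi22.subTable j.1 k := by
  have hl : ∀ l ∈ Fi22.subWords, ∀ x ∈ l, x < 16 := by decide +kernel
  have hj : j.1 < Fi22.subWords.length := j.2
  have h := Nat.eq_of_beq_eq_true (allFrom_spec _ _ _ (Fi22.sub_comp k k.2) j.1 (Nat.zero_le _) (by
    have := j.2; show j.1 < 0 + 10; omega))
  rw [List.getD_eq_getElem _ _ hj] at h
  rw [hgen, List.getD_eq_getElem _ _ hj, ← h, ← prod_invWord Fi22.hinv _ (hl _ (List.getElem_mem hj)), map_list_prod,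
    List.map_map, List.map_congr_left (f := ⇑Fi22.π ∘ Fi22.g) (g := permOf Fi22.table IP 3510 Fi22.ip_ok Fi22.row_ok)
      (fun x hx => Fi22.hπ x (invWord_lt _ x hx)),
    prod_invWord_apply Fi22.table IP 3510 Fi22.ip_ok Fi22.row_ok _ (hl _ (List.getElem_mem hj))]

theorem π_prod : ∀ (l : List (Fin 10)) (k : Fin 3510),
    ((Fi22.π (l.map hgen).prod k : Fin 3510) : ℕ) = scan Fi22.subTable (l.map Fin.val).reverse k := by
  intro l
  induction l with
  | nil => intro k; simp [scan_nil]
  | cons x r ih =>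
    intro k
    rw [List.map_cons, List.prod_cons, map_mul, Equiv.Perm.mul_apply, π_hgen, ih, List.map_cons, List.reverse_cons,
      scan_append, scan_cons, scan_nil]

theorem hgen_mem (j : Fin 10) : hgen j ∈ Fi22.H := by
  refine Subgroup.inv_mem _ (Subgroup.subset_closure ⟨Fi22.subWords.getD j.1 [], ?_, rfl⟩)
  rw [List.getD_eq_getElem _ _ (show j.1 < Fi22.subWords.length from j.2)]
  exact List.getElem_mem _

theorem H_le : Fi22.H ≤ Subgroup.closure (Set.range hgen) := by
  refine (Subgroup.closure_le _).mpr ?_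
  rintro _ ⟨l, hl, rfl⟩
  obtain ⟨j, hj, rfl⟩ := List.getElem_of_mem hl
  refine inv_mem_iff.mp (Subgroup.subset_closure ⟨⟨j, hj⟩, ?_⟩)
  rw [hgen, List.getD_eq_getElem _ _ hj]

/-- The generators inside the subgroup. -/
def e (j : Fin 10) : Fi22.H := ⟨hgen j, hgen_mem j⟩

/-- A relation test: the word raised to an odd power fixes every point. -/
noncomputable def relTest (l : List ℕ) (m : ℕ) : Bool :=
  allFrom (fun k => Nat.beq (scan Fi22.subTable (List.replicate m l).flatten k) k) 3510 0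

theorem odd_rel_mem (L : Subgroup Fi22.H) (hL : L.index = 2) (l : List (Fin 10)) (c : ℕ)
    (h : relTest (l.map Fin.val).reverse (2 * c + 1) = true) : (l.map e).prod ∈ L := by
  have h1 : ((l.map e).prod : Fi22.H) ^ (2 * c + 1) = 1 := by
    refine Subtype.ext (Fi22.injective (Equiv.ext fun k => Fin.ext ?_))
    have e1 : (((l.map e).prod ^ (2 * c + 1) : Fi22.H) : G) =
        (((List.replicate (2 * c + 1) l).flatten).map hgen).prod := by
      rw [List.map_flatten, List.prod_flatten, List.map_map, List.map_replicate, List.prod_replicate,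
        SubmonoidClass.coe_pow, Subgroup.val_list_prod, List.map_map]
      rfl
    rw [e1, π_prod, OneMemClass.coe_one, map_one, Equiv.Perm.one_apply, List.map_flatten, List.map_replicate,
      List.reverse_flatten, List.map_replicate, List.reverse_replicate]
    exact Nat.eq_of_beq_eq_true (allFrom_spec _ _ _ h k.1 (Nat.zero_le _) (by have := k.2; omega))
  have h2 := Subgroup.sq_mem_of_index_two hL (((l.map e).prod) ^ c)
  rw [← pow_mul, mul_comm c 2] at h2
  have h3 : (l.map e).prod = (((l.map e).prod) ^ (2 * c))⁻¹ := by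
    rw [eq_inv_iff_mul_eq_one, ← pow_succ', h1]
  rw [h3]
  exact inv_mem h2

theorem rel12 : relTest [2, 1] 3 = true := by decide +kernel
theorem rel23 : relTest [3, 2] 3 = true := by decide +kernel
theorem rel34 : relTest [4, 3] 3 = true := by decide +kernel
theorem rel45 : relTest [5, 4] 3 = true := by decide +kernel
theorem rel26 : relTest [6, 2] 3 = true := by decide +kernel
theorem rel67 : relTest [7, 6] 3 = true := by decide +kernel
theorem rel89 : relTest [8, 9] 1 = true := by decide +kernel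
theorem relC : relTest [2, 6, 3, 5, 7, 4, 1] 9 = true := by decide +kernel
theorem relW : relTest [8, 4] 3 = true := by decide +kernel
theorem relA : relTest [3, 0, 2, 9, 6, 7, 1] 5 = true := by decide +kernel

theorem no_index_two (L : Subgroup Fi22.H) : L.index ≠ 2 := by
  intro hL
  have hp : ∀ a b : Fin 10, (e a * e b ∈ L) → (e a ∈ L ↔ e b ∈ L) := fun a b h =>
    (Subgroup.mul_mem_iff_of_index_two hL).mp h
  have q12 := hp 1 2 (by simpa using odd_rel_mem L hL [1, 2] 1 rel12)
  have q23 := hp 2 3 (by simpa using odd_rel_mem L hL [2, 3] 1 rel23)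
  have q34 := hp 3 4 (by simpa using odd_rel_mem L hL [3, 4] 1 rel34)
  have q45 := hp 4 5 (by simpa using odd_rel_mem L hL [4, 5] 1 rel45)
  have q26 := hp 2 6 (by simpa using odd_rel_mem L hL [2, 6] 1 rel26)
  have q67 := hp 6 7 (by simpa using odd_rel_mem L hL [6, 7] 1 rel67)
  have q89 := hp 9 8 (by simpa using odd_rel_mem L hL [9, 8] 0 rel89)
  have m := fun a b : Fi22.H => Subgroup.mul_mem_iff_of_index_two hL (a := a) (b := b)
  have c2 := q12.symm
  have c3 := q23.symm.trans c2
  have c4 := q34.symm.trans c3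
  have c5 := q45.symm.trans c4
  have c6 := q26.symm.trans c2
  have c7 := q67.symm.trans c6
  have hC : e 1 ∈ L := by
    have h := odd_rel_mem L hL [1, 4, 7, 5, 3, 6, 2] 4 relC
    simp only [List.map_cons, List.map_nil, List.prod_cons, List.prod_nil, mul_one, m, c2, c3, c4, c5, c6, c7] at h
    by_cases q : e 1 ∈ L
    · exact q
    · simp [q] at h
  have hW : e 8 ∈ L := by
    have h := odd_rel_mem L hL [4, 8] 1 relW
    simp only [List.map_cons, List.map_nil, List.prod_cons, List.prod_nil, mul_one, m, c4, hC, true_iff] at h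
    exact h
  have hA : e 0 ∈ L := by
    have h := odd_rel_mem L hL [1, 7, 6, 9, 2, 0, 3] 2 relA
    simp only [List.map_cons, List.map_nil, List.prod_cons, List.prod_nil, mul_one, m, c2, c3, c6, c7, q89, hC, hW, true_iff, iff_true] at h
    exact h
  have hall : ∀ j : Fin 10, e j ∈ L := by
    intro j
    fin_cases j <;> simp only [Fin.zero_eta, Fin.mk_one, Fin.reduceFinMk]
    exacts [hA, hC, c2.mpr hC, c3.mpr hC, c4.mpr hC, c5.mpr hC, c6.mpr hC, c7.mpr hC, hW, q89.mpr hW]
  have h5 : L = ⊤ := by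
    rw [eq_top_iff]
    rintro ⟨w, hw⟩ -
    have hle : Fi22.H ≤ L.map Fi22.H.subtype := by
      refine H_le.trans ((Subgroup.closure_le _).mpr ?_)
      rintro _ ⟨j, rfl⟩
      exact ⟨_, hall j, rfl⟩
    obtain ⟨v, hv, hvw⟩ := hle hw
    have : v = ⟨w, hw⟩ := Subtype.ext hvw
    exact this ▸ hv
  rw [h5, Subgroup.index_top] at hL
  omega

/-- The correspondence test. -/
noncomputable def corrTest (k : ℕ) : Bool :=
  strict (sig.get 20 k) fun s => Nat.blt s 3510 && Nat.beq (back.get 20 s) k &&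
    allFrom (fun j => Nat.beq (act Fi22.subTable j s) (sig.get 20 (act hTable j k))) 10 0

theorem corr_ok : allFrom corrTest 693 0 = true := by decide +kernel

theorem corr_spec (k : Fin 693) : sig.get 20 k.1 < 3510 ∧ back.get 20 (sig.get 20 k.1) = k.1 ∧
    ∀ j : Fin 10, act Fi22.subTable j.1 (sig.get 20 k.1) = sig.get 20 (act hTable j.1 k.1) := by
  have h := allFrom_spec _ _ _ corr_ok k.1 (Nat.zero_le _) (by have := k.2; omega)
  simp only [corrTest, strict_eq, Bool.and_eq_true] at h
  exact ⟨Nat.le_of_ble_eq_true h.1.1, Nat.eq_of_beq_eq_true h.1.2,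
    fun j => Nat.eq_of_beq_eq_true (allFrom_spec _ _ _ h.2 j.1 (Nat.zero_le _) (by have := j.2; omega))⟩

/-- The point of `Fi22` matching an isotropic point. -/
noncomputable def σ (k : Fin 693) : Fin 3510 := ⟨sig.get 20 k.1, (corr_spec k).1⟩

theorem σ_injective : Function.Injective σ := by
  intro a b hab
  refine Fin.ext ?_
  rw [← (corr_spec a).2.1, ← (corr_spec b).2.1, show sig.get 20 a.1 = sig.get 20 b.1 from congrArg Fin.val hab]

theorem doubleCover : Cfsg.IsNonsplitDoubleCover Fi22.H (Cfsg.PSU 6 F4 2) := by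
  haveI : Finite G := Fi22.finite
  haveI : Finite (Cfsg.PSU 6 F4 2) := inferInstance
  haveI : IsSimpleGroup (Cfsg.PSU 6 F4 2) := CfsgLib.Classical.Herm.isSimpleGroup_psu hF (by omega) (by omega)
  obtain ⟨f, -, hf⟩ := exists_hom_of_corr Fi22.π ρbar ρbar_injective σ σ_injective hgen
    (fun j => (QuotientGroup.mk (u j) : Cfsg.PSU 6 F4 2)) Fi22.H H_le (fun j k => Fin.ext (by
      rw [π_hgen]
      show act Fi22.subTable j.1 (sig.get 20 k.1) = sig.get 20 ((ρbar (QuotientGroup.mk (u j)) k : Fin 693) : ℕ)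
      rw [ρbar_mk, ρ_u]
      exact (corr_spec k).2.2 j))
  refine isNonsplitDoubleCover_of_hom ?_ f (surjective_of_hits f fun j => ⟨_, hf j (hgen_mem j)⟩)
    (by rw [Fi22.card_H, card_PSU]) no_index_two
  rw [card_PSU]
  norm_num

/-- The transposition. -/
def z : G := Fi22.g 0

theorem z_mem : z ∈ Fi22.H := Subgroup.subset_closure ⟨[0], by decide +kernel, by simp [z]⟩

theorem g_inv (x : ℕ) (hx : x < 16) : (Fi22.g x)⁻¹ = Fi22.g x := by rw [← Fi22.hinv x hx, Fi22.linv_eq x hx]

theorem π_g (x : ℕ) (hx : x < 16) (k : Fin 3510) : ((Fi22.π (Fi22.g x) k : Fin 3510) : ℕ) = act Fi22.table x k := by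
  have h := pi_linv_apply Fi22.table IP 3510 Fi22.ip_ok Fi22.row_ok Fi22.π Fi22.g Fi22.hπ hx k
  rwa [Fi22.linv_eq x hx] at h

theorem π_word : ∀ l : List ℕ, (∀ x ∈ l, x < 16) → ∀ k : Fin 3510,
    ((Fi22.π (l.map Fi22.g).prod k : Fin 3510) : ℕ) = scan Fi22.table l.reverse k := by
  intro l
  induction l with
  | nil => intro _ k; simp [scan_nil]
  | cons x r ih =>
    intro hl k
    rw [List.map_cons, List.prod_cons, map_mul, Equiv.Perm.mul_apply, π_g x (hl x (by simp)),
      ih (fun y hy => hl y (List.mem_cons_of_mem _ hy)), List.reverse_cons, scan_append, scan_cons, scan_nil]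

theorem zcomm_ok : allFrom (fun k => allFrom (fun j => Nat.beq (act Fi22.table 0 (act Fi22.subTable j k))
    (act Fi22.subTable j (act Fi22.table 0 k))) 10 0) 3510 0 = true := by decide +kernel

theorem z_comm : ∀ w ∈ Fi22.H, w * z = z * w := by
  intro w hw
  have hle : Fi22.H ≤ Subgroup.centralizer ({z} : Set G) := by
    refine H_le.trans ((Subgroup.closure_le _).mpr ?_)
    rintro _ ⟨j, rfl⟩
    rw [SetLike.mem_coe, Subgroup.mem_centralizer_singleton_iff]
    refine Fi22.injective (Equiv.ext fun k => Fin.ext ?_)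
    simp only [map_mul, Equiv.Perm.mul_apply, π_hgen, z, π_g 0 (by omega)]
    exact (Nat.eq_of_beq_eq_true (allFrom_spec _ _ _
      (allFrom_spec _ _ _ zcomm_ok k.1 (Nat.zero_le _) (by have := k.2; omega)) j.1 (Nat.zero_le _)
      (by have := j.2; omega))).symm
  exact Subgroup.mem_centralizer_singleton_iff.mp (hle hw)

theorem z_ne_one : z ≠ 1 := by
  intro h
  have h1 : ∀ k : Fin 3510, act Fi22.table 0 k.1 = k.1 := fun k => by
    rw [← π_g 0 (by omega) k, show Fi22.g 0 = 1 from h, map_one]; rfl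
  exact absurd h1 (fun h2 => absurd (h2 1) (by decide +kernel))

theorem orderOf_z : orderOf z = 2 := by
  haveI : Fact (Nat.Prime 2) := ⟨Nat.prime_two⟩
  refine orderOf_eq_prime ?_ z_ne_one
  rw [pow_two]
  nth_rewrite 1 [z]
  rw [← g_inv 0 (by omega)]
  exact inv_mul_cancel _

theorem centralizer_z : Subgroup.centralizer ({z} : Set G) = Fi22.H := by
  haveI : Finite G := Fi22.finite
  haveI := Fi22.Simple.isSimple
  rcases Fi22.maximal.1 _ (fun w hw => Subgroup.mem_centralizer_singleton_iff.mpr (z_comm w hw)) with h | h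
  · exact h
  · exfalso
    refine z_ne_one (Subgroup.mem_bot.mp ?_)
    rw [← center_eq_bot_of_simple (K := G) (by rw [Fi22.card_group]; norm_num), Subgroup.mem_center_iff]
    intro w
    exact Subgroup.mem_centralizer_singleton_iff.mp (h ▸ Subgroup.mem_top w)

theorem mem_of_fix (t : G) (h : Fi22.π t ⟨0, by omega⟩ = ⟨0, by omega⟩) : t ∈ Fi22.H := by
  have hn : 0 < 3510 := by omega
  have h1 : (t : G ⧸ Fi22.H) = ((1 : G) : G ⧸ Fi22.H) :=
    (cosetPt_bijective hn Fi22.π Fi22.H Fi22.covers (Fi22.sub_fix hn) (Fi22.transitive hn)).1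
      (by rw [cosetPt_mk, cosetPt_mk, h, map_one, Equiv.Perm.one_apply])
  simpa using QuotientGroup.eq.mp h1.symm

theorem word_inv (l : List ℕ) (hl : ∀ x ∈ l, x < 16) : ((l.map Fi22.g).prod)⁻¹ = (l.reverse.map Fi22.g).prod := by
  induction l with
  | nil => simp
  | cons x r ih =>
    rw [List.map_cons, List.prod_cons, mul_inv_rev, ih fun y hy => hl y (List.mem_cons_of_mem _ hy),
      g_inv x (hl x (by simp)), List.reverse_cons, List.map_append, List.prod_append]
    simp

theorem pair_case (t : List ℕ) (ht : ∀ x ∈ t, x < 16) (r : Fin 3510) (c m : ℕ)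
    (hmove : Nat.beq (scan Fi22.table t.reverse 0) r.1 = true) (hlab : Nat.beq (Fi22.lab.get 20 r.1) c = true)
    (hroot : Nat.beq (Fi22.root.get 20 c) r.1 = true)
    (hok : allFrom (fun k => Nat.beq (scan Fi22.table (List.replicate m ([0] ++ t ++ [0] ++ t.reverse)).flatten.reverse k) k)
      3510 0 = true)
    (v : G) (hv : Fi22.lab.get 20 ((Fi22.π v ⟨0, by omega⟩ : Fin 3510) : ℕ) = c) :
    (z * (v * z * v⁻¹)) ^ m = 1 := by
  have hT : Fi22.π ((t.map Fi22.g).prod) ⟨0, by omega⟩ = r := by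
    refine Fin.ext ?_
    rw [π_word t ht]
    exact Nat.eq_of_beq_eq_true hmove
  set T := (t.map Fi22.g).prod with hTdef
  have h2 : (z * (T * z * T⁻¹)) ^ m = 1 := by
    have hl : ∀ x ∈ (List.replicate m ([0] ++ t ++ [0] ++ t.reverse)).flatten, x < 16 := by
      intro x hx
      obtain ⟨l, hl, hxl⟩ := List.mem_flatten.mp hx
      rw [List.eq_of_mem_replicate hl] at hxl
      simp only [List.mem_append, List.mem_reverse, List.mem_singleton] at hxl
      rcases hxl with ((h | h) | h) | h
      exacts [by omega, ht x h, by omega, ht x h]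
    have h1 : ((List.replicate m ([0] ++ t ++ [0] ++ t.reverse)).flatten.map Fi22.g).prod = 1 := by
      refine Fi22.injective (Equiv.ext fun k => Fin.ext ?_)
      rw [π_word _ hl, map_one]
      exact Nat.eq_of_beq_eq_true (allFrom_spec _ _ _ hok k.1 (Nat.zero_le _) (by have := k.2; omega))
    rw [List.map_flatten, List.prod_flatten, List.map_map, List.map_replicate, List.prod_replicate] at h1
    simp only [Function.comp_apply, List.map_append, List.prod_append, ← word_inv t ht, ← hTdef] at h1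
    simpa [z, mul_assoc] using h1
  obtain ⟨w, hw, hwr⟩ : Fi22.π v ⟨0, by omega⟩ ∈ {k | ∃ w ∈ Fi22.H, Fi22.π w r = k} := by
    rw [orbit_class Fi22.π Fi22.H Fi22.subTable Fi22.sub_spec.1 Fi22.sub_spec.2 Fi22.lab Fi22.orbPar Fi22.root
      Fi22.orbit_ok r c hlab hroot]
    exact hv
  have hh : (w * T)⁻¹ * v ∈ Fi22.H := by
    refine mem_of_fix _ ?_
    rw [map_mul, Equiv.Perm.mul_apply, ← hwr, map_inv, map_mul, ← hT]
    simp
  have e : v * z * v⁻¹ = w * (T * z * T⁻¹) * w⁻¹ := by
    have := z_comm _ hh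
    calc v * z * v⁻¹ = (w * T) * (((w * T)⁻¹ * v) * z) * v⁻¹ := by group
      _ = (w * T) * (z * ((w * T)⁻¹ * v)) * v⁻¹ := by rw [this]
      _ = w * (T * z * T⁻¹) * w⁻¹ := by group
  have hz' : z = w * z * w⁻¹ := by rw [z_comm w hw]; group
  rw [e]
  nth_rewrite 1 [hz']
  rw [show w * z * w⁻¹ * (w * (T * z * T⁻¹) * w⁻¹) = w * (z * (T * z * T⁻¹)) * w⁻¹ by group, conj_pow, h2]
  group

theorem lab_lt : allFrom (fun k => Nat.blt (Fi22.lab.get 20 k) 3) 3510 0 = true := by decide +kernel

theorem pair_ok (v : G) : (z * (v * z * v⁻¹)) ^ 2 = 1 ∨ (z * (v * z * v⁻¹)) ^ 3 = 1 := by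
  have hk := (Fi22.π v ⟨0, by omega⟩ : Fin 3510).2
  have h3 := Nat.le_of_ble_eq_true (allFrom_spec _ _ _ lab_lt _ (Nat.zero_le _) (by
    show ((Fi22.π v ⟨0, by omega⟩ : Fin 3510) : ℕ) < 0 + 3510; omega))
  rcases (by omega : Fi22.lab.get 20 ((Fi22.π v ⟨0, by omega⟩ : Fin 3510) : ℕ) = 0 ∨
      Fi22.lab.get 20 ((Fi22.π v ⟨0, by omega⟩ : Fin 3510) : ℕ) = 1 ∨
      Fi22.lab.get 20 ((Fi22.π v ⟨0, by omega⟩ : Fin 3510) : ℕ) = 2) with h | h | h
  · left
    obtain ⟨w, hw, hwr⟩ : Fi22.π v ⟨0, by omega⟩ ∈ {k | ∃ w ∈ Fi22.H, Fi22.π w (⟨0, by omega⟩ : Fin 3510) = k} := by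
      rw [orbit_class Fi22.π Fi22.H Fi22.subTable Fi22.sub_spec.1 Fi22.sub_spec.2 Fi22.lab Fi22.orbPar Fi22.root
        Fi22.orbit_ok ⟨0, by omega⟩ 0 (show Nat.beq (Fi22.lab.get 20 0) 0 = true by decide +kernel)
        (show Nat.beq (Fi22.root.get 20 0) 0 = true by decide +kernel)]
      exact h
    rw [Fi22.sub_fix (by omega) w hw] at hwr
    have hu := mem_of_fix v hwr.symm
    rw [z_comm v hu, mul_inv_cancel_right, ← pow_two, ← pow_mul]
    exact orderOf_dvd_iff_pow_eq_one.mp (by rw [orderOf_z]; exact Dvd.intro 2 rfl)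
  · exact Or.inr (pair_case [1] (by decide) 1 1 3 (by decide +kernel) (by decide +kernel) (by decide +kernel)
      (by decide +kernel) v h)
  · exact Or.inl (pair_case [1, 2, 0, 1] (by decide) 6 2 2 (by decide +kernel) (by decide +kernel) (by decide +kernel)
      (by decide +kernel) v h)

theorem card_class : Nat.card (conjugatesOf z : Set G) = 3510 := by
  haveI : Finite G := Fi22.finite
  rw [← Fi22.index_H, ← centralizer_z, Subgroup.index]
  refine Nat.card_congr (Equiv.ofBijective (Quotient.lift (fun w : G => (⟨w * z * w⁻¹, isConj_iff.mpr ⟨w, rfl⟩⟩ : (conjugatesOf z : Set G))) ?_) ⟨?_, ?_⟩).symm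
  · intro a b hab
    have h := Subgroup.mem_centralizer_singleton_iff.mp (QuotientGroup.leftRel_apply.mp hab)
    apply Subtype.ext
    calc a * z * a⁻¹ = a * (z * (a⁻¹ * b)) * b⁻¹ := by group
      _ = a * ((a⁻¹ * b) * z) * b⁻¹ := by rw [h]
      _ = b * z * b⁻¹ := by group
  · intro a b
    induction a using QuotientGroup.induction_on with | H a => ?_
    induction b using QuotientGroup.induction_on with | H b => ?_
    intro hab
    have h : a * z * a⁻¹ = b * z * b⁻¹ := congrArg Subtype.val hab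
    refine QuotientGroup.eq.mpr (Subgroup.mem_centralizer_singleton_iff.mpr ?_)
    calc a⁻¹ * b * z = a⁻¹ * (b * z * b⁻¹) * b := by group
      _ = a⁻¹ * (a * z * a⁻¹) * b := by rw [h]
      _ = z * (a⁻¹ * b) := by group
  · rintro ⟨b, hb⟩
    obtain ⟨w, rfl⟩ := isConj_iff.mp hb
    exact ⟨(w : G ⧸ Subgroup.centralizer ({z} : Set G)), rfl⟩

theorem threeClass : Cfsg.IsThreeTranspositionClass (conjugatesOf z : Set G) := by
  haveI : Finite G := Fi22.finite
  haveI := Fi22.Simple.isSimple
  refine ⟨⟨fun d hd => ?_, fun d hd e he => ?_⟩, ⟨z, mem_conjugatesOf_self, rfl⟩, ?_⟩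
  · obtain ⟨w, rfl⟩ := isConj_iff.mp hd
    rw [← orderOf_z]
    exact (MulAut.conj w).orderOf_eq z
  · obtain ⟨a, rfl⟩ := isConj_iff.mp hd
    obtain ⟨b, rfl⟩ := isConj_iff.mp he
    have e1 : a * z * a⁻¹ * (b * z * b⁻¹) = a * (z * ((a⁻¹ * b) * z * (a⁻¹ * b)⁻¹)) * a⁻¹ := by group
    rcases pair_ok (a⁻¹ * b) with h | h
    · left; rw [e1, conj_pow, h]; group
    · right; rw [e1, conj_pow, h]; group
  · have hN : Subgroup.normalClosure ({z} : Set G) = Subgroup.closure (conjugatesOf z) := by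
      rw [Subgroup.normalClosure, Group.conjugatesOfSet, Set.biUnion_singleton]
    rw [← hN]
    rcases (Subgroup.normalClosure_normal (s := ({z} : Set G))).eq_bot_or_eq_top with h | h
    · exact absurd (Subgroup.mem_bot.mp (h ▸ Subgroup.subset_normalClosure (Set.mem_singleton z))) z_ne_one
    · exact h

theorem centralizer_conj (d : G) (hd : d ∈ (conjugatesOf z : Set G)) :
    Cfsg.IsNonsplitDoubleCover (Subgroup.centralizer ({d} : Set G)) (Cfsg.PSU 6 F4 2) := by
  obtain ⟨w, rfl⟩ := isConj_iff.mp hd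
  have hm : Subgroup.centralizer ({w * z * w⁻¹} : Set G) = Fi22.H.map (MulAut.conj w : G ≃* G).toMonoidHom := by
    rw [← centralizer_z]
    ext v
    rw [Subgroup.mem_centralizer_singleton_iff, Subgroup.mem_map_equiv, Subgroup.mem_centralizer_singleton_iff,
      MulAut.conj_symm_apply]
    constructor
    · intro h
      calc w⁻¹ * v * w * z = w⁻¹ * (v * (w * z * w⁻¹)) * w := by group
        _ = w⁻¹ * ((w * z * w⁻¹) * v) * w := by rw [h]
        _ = z * (w⁻¹ * v * w) := by group
    · intro h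
      calc v * (w * z * w⁻¹) = w * ((w⁻¹ * v * w) * z) * w⁻¹ := by group
        _ = w * (z * (w⁻¹ * v * w)) * w⁻¹ := by rw [h]
        _ = w * z * w⁻¹ * v := by group
  rw [hm]
  let e : Fi22.H ≃* Fi22.H.map (MulAut.conj w : G ≃* G).toMonoidHom := (MulAut.conj w : G ≃* G).subgroupMap Fi22.H
  obtain ⟨h1, ⟨q⟩, h3⟩ := doubleCover
  have hc : (Subgroup.center Fi22.H).map e.toMonoidHom = Subgroup.center _ :=
    Subgroup.ext fun v => by
      rw [Subgroup.mem_map_equiv, Subgroup.mem_center_iff, Subgroup.mem_center_iff]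
      constructor
      · intro h u
        have := congrArg e (h (e.symm u))
        erw [map_mul, map_mul, e.apply_symm_apply, e.apply_symm_apply] at this
        exact this
      · intro h u
        apply e.injective
        erw [map_mul, map_mul, e.apply_symm_apply]
        exact h (e u)
  refine ⟨?_, ⟨((QuotientGroup.congr _ _ e hc).symm).trans q⟩, fun L hL => ?_⟩
  · rw [← hc, Subgroup.card_map_of_injective e.injective]; exact h1
  · refine no_index_two (L.comap e.toMonoidHom) ?_
    rw [Subgroup.index_comap_of_surjective _ e.surjective, hL.index_eq_card, ← hc,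
      Subgroup.card_map_of_injective e.injective, h1]

end CfsgLib.CosetEnum.Fi22U6
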