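import Cfsg.Agent.Lib.CosetEnum.Fi22U6.Base
import Cfsg.Agent.Lib.Recog.GF4
import Cfsg.Agent.Lib.Classical.Herm.Apps

/-!
`SU₆(2)` acting on the 693 isotropic points.
-/

set_option autoImplicit false

namespace CfsgLib.CosetEnum.Fi22U6

open CfsgLib.CosetEnum CfsgLib.Classical
open scoped Matrix

/-- The field. -/
abbrev F4 : Type := CfsgLib.Recog.GF4.K4

/-- Vectors. -/
abbrev V6 : Type := Fin 6 → F4

/-- The special unitary group. -/
abbrev SU6 : Type := Cfsg.SU 6 F4 2

theorem hF : Fintype.card F4 = 2 ^ 2 := CfsgLib.Recog.GF4.card_K4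

/-- Read a field element. -/
def fOf (k : ℕ) : F4 := ⟨⟨Nat.mod k 4, Nat.mod_lt _ (by decide)⟩⟩

/-- The number of a field element. -/
def fv (a : F4) : ℕ := a.val.1

/-- Digit in base four. -/
def dig (k i : ℕ) : ℕ := Nat.mod (Nat.div k (4 ^ i)) 4

/-- Product of two digits. -/
def gm (a b : ℕ) : ℕ := Nat.land (Nat.shiftRight 2625168384 (2 * (4 * a + b))) 3

theorem ops_ok : ∀ a b : Fin 4, fv (⟨a⟩ + ⟨b⟩) = Nat.xor a.1 b.1 ∧ fv (⟨a⟩ * ⟨b⟩) = gm a.1 b.1 := by
  decide +kernel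

theorem fv_add (a b : F4) : fv (a + b) = Nat.xor (fv a) (fv b) := (ops_ok a.val b.val).1

theorem fv_mul (a b : F4) : fv (a * b) = gm (fv a) (fv b) := (ops_ok a.val b.val).2

theorem fv_injective : Function.Injective fv := fun a b h => congrArg CfsgLib.Recog.GF4.K4.mk (Fin.ext h)

theorem fv_fOf (k : ℕ) : fv (fOf k) = Nat.mod k 4 := rfl

theorem fv_lt (a : F4) : fv a < 4 := a.val.2

theorem xor_eq (a b : ℕ) : Nat.xor a b = a ^^^ b := rfl

/-- The code of a vector. -/
def code (v : V6) : ℕ := fv (v 0) + 4 * fv (v 1) + 16 * fv (v 2) + 64 * fv (v 3) + 256 * fv (v 4) + 1024 * fv (v 5)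

theorem code_lt (v : V6) : code v < 4096 := by
  have := fv_lt (v 0); have := fv_lt (v 1); have := fv_lt (v 2)
  have := fv_lt (v 3); have := fv_lt (v 4); have := fv_lt (v 5)
  unfold code; omega

theorem dig_code (v : V6) (i : Fin 6) : dig (code v) i.1 = fv (v i) := by
  have := fv_lt (v 0); have := fv_lt (v 1); have := fv_lt (v 2)
  have := fv_lt (v 3); have := fv_lt (v 4); have := fv_lt (v 5)
  show code v / 4 ^ i.1 % 4 = fv (v i)
  unfold code
  fin_cases i <;> (simp only [Fin.zero_eta, Fin.mk_one, Fin.reduceFinMk]; norm_num; omega)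

/-- The point of a code. -/
noncomputable def ptN (k : ℕ) : ℕ := Nat.mod (pidxT.get 20 k) 693

/-- A digit of the representative of a point. -/
noncomputable def rd (p i : ℕ) : ℕ := dig (repT.get 20 p) i

/-- The form on a code. -/
def hN (k : ℕ) : ℕ :=
  Nat.xor (Nat.xor (Nat.xor (gm (dig k 0) (gm (dig k 0) (dig k 0))) (gm (dig k 1) (gm (dig k 1) (dig k 1))))
    (Nat.xor (gm (dig k 2) (gm (dig k 2) (dig k 2))) (gm (dig k 3) (gm (dig k 3) (dig k 3)))))
    (Nat.xor (gm (dig k 4) (gm (dig k 4) (dig k 4))) (gm (dig k 5) (gm (dig k 5) (dig k 5))))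

/-- The first non-zero digit. -/
def leadN (k : ℕ) : ℕ :=
  cond (Nat.beq (dig k 0) 0) (cond (Nat.beq (dig k 1) 0) (cond (Nat.beq (dig k 2) 0) (cond (Nat.beq (dig k 3) 0)
    (cond (Nat.beq (dig k 4) 0) (dig k 5) (dig k 4)) (dig k 3)) (dig k 2)) (dig k 1)) (dig k 0)

/-- The normal form test. -/
noncomputable def nfOK (k : ℕ) : Bool :=
  !(Nat.beq (hN k) 0) || Nat.beq k 0 ||
    (!(Nat.beq (leadN k) 0) && strict (ptN k) fun p =>
      allFrom (fun i => Nat.beq (dig k i) (gm (leadN k) (rd p i))) 6 0)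

/-- The test on representatives. -/
noncomputable def repOK (p : ℕ) : Bool :=
  strict (repT.get 20 p) fun k => Nat.blt k 4096 && !(Nat.beq k 0) && Nat.beq (hN k) 0 &&
    allFrom (fun s => Nat.beq s 0 || Nat.beq
      (ptN (gm s (dig k 0) + 4 * gm s (dig k 1) + 16 * gm s (dig k 2) + 64 * gm s (dig k 3) + 256 * gm s (dig k 4) +
        1024 * gm s (dig k 5))) p) 4 0

theorem nf_ok : allFrom nfOK 4096 0 = true := by decide +kernel

theorem rep_ok : allFrom repOK 693 0 = true := by decide +kernel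

/-- The Hermitian form. -/
abbrev hf (u v : V6) : F4 := Cfsg.hermForm 6 F4 2 u v

theorem fv_hf (v : V6) : fv (hf v v) = hN (code v) := by
  rw [hf, Cfsg.hermForm, Fin.sum_univ_six]
  simp only [hN, fv_add, fv_mul, pow_two]
  rw [← dig_code v 0, ← dig_code v 1, ← dig_code v 2, ← dig_code v 3, ← dig_code v 4, ← dig_code v 5]
  simp only [xor_eq, Nat.xor_assoc]
  rfl

/-- Representative of a point. -/
noncomputable def rep (p : Fin 693) : V6 := fun i => fOf (Nat.div (repT.get 20 p.1) (4 ^ i.1))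

theorem rep_spec (p : Fin 693) : code (rep p) = repT.get 20 p.1 ∧ repT.get 20 p.1 ≠ 0 ∧ hN (repT.get 20 p.1) = 0 ∧
    ∀ s : F4, s ≠ 0 → ptN (code (s • rep p)) = p.1 := by
  have h := allFrom_spec _ _ _ rep_ok p.1 (Nat.zero_le _) (by have := p.2; omega)
  simp only [repOK, strict_eq, Bool.and_eq_true, Bool.not_eq_true'] at h
  obtain ⟨⟨⟨h1, h2⟩, h3⟩, h4⟩ := h
  have hlt : repT.get 20 p.1 < 4096 := Nat.le_of_ble_eq_true h1
  refine ⟨?_, ?_, Nat.eq_of_beq_eq_true h3, fun s hs => ?_⟩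
  · simp only [code, rep, fv_fOf]
    show _ / 4 ^ (0 : Fin 6).1 % 4 + 4 * (_ / 4 ^ (1 : Fin 6).1 % 4) + 16 * (_ / 4 ^ (2 : Fin 6).1 % 4) +
      64 * (_ / 4 ^ (3 : Fin 6).1 % 4) + 256 * (_ / 4 ^ (4 : Fin 6).1 % 4) + 1024 * (_ / 4 ^ (5 : Fin 6).1 % 4) = _
    norm_num
    omega
  · intro h0
    rw [h0] at h2
    exact Bool.noConfusion (h2 : (true : Bool) = false)
  · have h5 := allFrom_spec _ _ _ h4 (fv s) (Nat.zero_le _) (by have := fv_lt s; omega)
    rcases Bool.or_eq_true _ _ ▸ h5 with h6 | h6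
    · exact absurd (fv_injective (Nat.eq_of_beq_eq_true h6) : s = 0) hs
    · refine Eq.trans ?_ (Nat.eq_of_beq_eq_true h6)
      simp only [code, Pi.smul_apply, smul_eq_mul, fv_mul]
      rfl

theorem rep_ne_zero (p : Fin 693) : rep p ≠ 0 := by
  intro h
  obtain ⟨h1, h2, -⟩ := rep_spec p
  apply h2
  rw [← h1, h]
  rfl

theorem rep_iso (p : Fin 693) : hf (rep p) (rep p) = 0 := by
  obtain ⟨h1, -, h3, -⟩ := rep_spec p
  refine fv_injective ?_
  rw [fv_hf, h1, h3]
  rfl

/-- The point of a vector. -/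
noncomputable def pidx (v : V6) : Fin 693 := ⟨ptN (code v), Nat.mod_lt _ (by decide)⟩

theorem pidx_smul_rep {s : F4} (hs : s ≠ 0) (p : Fin 693) : pidx (s • rep p) = p :=
  Fin.ext ((rep_spec p).2.2.2 s hs)

theorem pidx_rep (p : Fin 693) : pidx (rep p) = p := by
  simpa using pidx_smul_rep (one_ne_zero (α := F4)) p

theorem exists_scalar {v : V6} (hv : v ≠ 0) (hi : hf v v = 0) : ∃ s : F4, s ≠ 0 ∧ v = s • rep (pidx v) := by
  have h := allFrom_spec _ _ _ nf_ok (code v) (Nat.zero_le _) (by have := code_lt v; omega)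
  have h0 : hN (code v) = 0 := by rw [← fv_hf, hi]; rfl
  have hc : code v ≠ 0 := fun h => hv (funext fun i => fv_injective (by rw [← dig_code v i, h]; show 0 / 4 ^ i.1 % 4 = 0; simp))
  simp only [nfOK, h0, Nat.beq_refl, Bool.not_true, Bool.false_or, Bool.or_eq_true, strict_eq, Bool.and_eq_true,
    Bool.not_eq_true'] at h
  rcases h with h | ⟨h1, h2⟩
  · exact absurd (Nat.eq_of_beq_eq_true h) hc
  have hl : fv (fOf (leadN (code v))) = leadN (code v) := by
    rw [fv_fOf]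
    refine Nat.mod_eq_of_lt ?_
    have hd : ∀ i, dig (code v) i < 4 := fun i => Nat.mod_lt _ (by decide)
    simp only [leadN]
    cases Nat.beq (dig (code v) 0) 0 <;> cases Nat.beq (dig (code v) 1) 0 <;> cases Nat.beq (dig (code v) 2) 0 <;>
      cases Nat.beq (dig (code v) 3) 0 <;> cases Nat.beq (dig (code v) 4) 0 <;> exact hd _
  refine ⟨fOf (leadN (code v)), fun h => ?_, funext fun i => fv_injective ?_⟩
  · rw [h] at hl
    rw [← hl] at h1
    exact Bool.noConfusion (h1 : (true : Bool) = false)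
  · have h3 := Nat.eq_of_beq_eq_true (allFrom_spec _ _ _ h2 i.1 (Nat.zero_le _) (by have := i.2; omega))
    rw [← dig_code v i, h3, Pi.smul_apply, smul_eq_mul, fv_mul, hl]
    rfl

theorem pidx_smul {s : F4} (hs : s ≠ 0) {v : V6} (hv : v ≠ 0) (hi : hf v v = 0) : pidx (s • v) = pidx v := by
  obtain ⟨t, ht, htv⟩ := exists_scalar hv hi
  conv_lhs => rw [htv, smul_smul]
  exact pidx_smul_rep (mul_ne_zero hs ht) _

/-- The matrix of an element. -/
abbrev mtx (A : SU6) : Matrix (Fin 6) (Fin 6) F4 := (A.1 : Matrix (Fin 6) (Fin 6) F4)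

theorem mtx_mul (A B : SU6) : mtx (A * B) = mtx A * mtx B := rfl

theorem mtx_one : mtx 1 = 1 := rfl

theorem mtx_iso (A : SU6) (v : V6) : hf (mtx A *ᵥ v) (mtx A *ᵥ v) = hf v v := A.2 v v

theorem mtx_ne_zero (A : SU6) {v : V6} (hv : v ≠ 0) : mtx A *ᵥ v ≠ 0 := by
  intro h
  apply hv
  have h1 : mtx (A⁻¹ * A) *ᵥ v = 0 := by rw [mtx_mul, ← Matrix.mulVec_mulVec, h, Matrix.mulVec_zero]
  rwa [inv_mul_cancel, mtx_one, Matrix.one_mulVec] at h1

/-- The action on the points. -/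
noncomputable def pact (A : SU6) (p : Fin 693) : Fin 693 := pidx (mtx A *ᵥ rep p)

theorem pact_one (p : Fin 693) : pact 1 p = p := by rw [pact, mtx_one, Matrix.one_mulVec, pidx_rep]

theorem pact_mul (A B : SU6) (p : Fin 693) : pact (A * B) p = pact A (pact B p) := by
  obtain ⟨s, hs, hB⟩ := exists_scalar (mtx_ne_zero B (rep_ne_zero p)) (by rw [mtx_iso, rep_iso])
  rw [pact, mtx_mul, ← Matrix.mulVec_mulVec, hB, Matrix.mulVec_smul,
    pidx_smul hs (mtx_ne_zero A (rep_ne_zero _)) (by rw [mtx_iso, rep_iso])]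
  rfl

/-- The permutation representation. -/
noncomputable def ρ : SU6 →* Equiv.Perm (Fin 693) :=
  MonoidHom.mk' (fun A =>
    ⟨pact A, pact A⁻¹, fun k => by rw [← pact_mul, inv_mul_cancel, pact_one],
      fun k => by rw [← pact_mul, mul_inv_cancel, pact_one]⟩)
    fun A B => Equiv.ext (pact_mul A B)

/-- The generating matrices. -/
def mat (j : ℕ) : Matrix (Fin 6) (Fin 6) F4 := fun a b => fOf ((entries.getD j []).getD (6 * a.1 + b.1) 0)

theorem mat_unitary : ∀ j : Fin 10, (mat j.1)ᵀ * (mat j.1).map (fun x => x * x) = 1 := by decide +kernel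

theorem mat_det : ∀ j : Fin 10, (mat j.1).det = 1 := by decide +kernel

theorem mat_preserves (j : Fin 10) (u v : V6) :
    Cfsg.hermForm 6 F4 2 (mat j.1 *ᵥ u) (mat j.1 *ᵥ v) = Cfsg.hermForm 6 F4 2 u v := by
  have e : ∀ a b : V6, Cfsg.hermForm 6 F4 2 a b = a ⬝ᵥ (Herm.qPow hF ∘ b) := fun a b =>
    Finset.sum_congr rfl fun i _ => by rw [Function.comp_apply, Herm.qPow_apply]
  have e2 : Herm.qPow hF ∘ (mat j.1 *ᵥ v) = (mat j.1).map (Herm.qPow hF) *ᵥ (Herm.qPow hF ∘ v) :=
    funext fun i => RingHom.map_mulVec _ _ _ i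
  rw [e, e, e2, Matrix.dotProduct_mulVec, Matrix.vecMul_mulVec, ← Matrix.dotProduct_mulVec]
  have h : (mat j.1)ᵀ * (mat j.1).map (Herm.qPow hF) = 1 := by
    rw [← mat_unitary j]
    congr 1
    ext a b
    simp [Herm.qPow_apply, pow_two]
  rw [h, Matrix.one_mulVec]

/-- The generators. -/
def u (j : Fin 10) : SU6 := ⟨⟨mat j.1, mat_det j⟩, mat_preserves j⟩

/-- One digit of an image. -/
noncomputable def rowN (E : List ℕ) (r k : ℕ) : ℕ :=
  Nat.xor (Nat.xor (Nat.xor (gm (E.getD (6 * r + 0) 0) (dig k 0)) (gm (E.getD (6 * r + 1) 0) (dig k 1)))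
    (Nat.xor (gm (E.getD (6 * r + 2) 0) (dig k 2)) (gm (E.getD (6 * r + 3) 0) (dig k 3))))
    (Nat.xor (gm (E.getD (6 * r + 4) 0) (dig k 4)) (gm (E.getD (6 * r + 5) 0) (dig k 5)))

/-- The test on the matrices. -/
noncomputable def matOK (p : ℕ) : Bool :=
  strict (repT.get 20 p) fun k => allFrom (fun j => strict j fun j =>
    Nat.beq (ptN (rowN (entries.getD j []) 0 k + 4 * rowN (entries.getD j []) 1 k + 16 * rowN (entries.getD j []) 2 k +
      64 * rowN (entries.getD j []) 3 k + 256 * rowN (entries.getD j []) 4 k + 1024 * rowN (entries.getD j []) 5 k))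
      (act hTable j p)) 10 0

theorem mat_ok_0 : allFrom matOK 231 0 = true := by decide +kernel

theorem mat_ok_1 : allFrom matOK 231 231 = true := by decide +kernel

theorem mat_ok_2 : allFrom matOK 231 462 = true := by decide +kernel

theorem entries_lt : ∀ j : Fin 10, ∀ i : Fin 36, (entries.getD j.1 []).getD i.1 0 < 4 := by decide +kernel

theorem ρ_u (j : Fin 10) (p : Fin 693) : ((ρ (u j) p : Fin 693) : ℕ) = act hTable j.1 p.1 := by
  have h : matOK p.1 = true := by
    have := p.2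
    rcases Nat.lt_or_ge p.1 231 with h | h
    · exact allFrom_spec _ _ _ mat_ok_0 _ (Nat.zero_le _) (by omega)
    rcases Nat.lt_or_ge p.1 462 with h' | h'
    · exact allFrom_spec _ _ _ mat_ok_1 _ h (by omega)
    · exact allFrom_spec _ _ _ mat_ok_2 _ h' (by omega)
  simp only [matOK, strict_eq] at h
  refine Eq.trans ?_ (Nat.eq_of_beq_eq_true (allFrom_spec _ _ _ h j.1 (Nat.zero_le _) (by have := j.2; omega)))
  have hr : ∀ r : Fin 6, fv ((mat j.1 *ᵥ rep p) r) = rowN (entries.getD j.1 []) r.1 (repT.get 20 p.1) := by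
    intro r
    rw [Matrix.mulVec, dotProduct, Fin.sum_univ_six]
    simp only [fv_add, fv_mul, mat, fv_fOf, rep, rowN, xor_eq, Nat.xor_assoc]
    have hm : ∀ i, 6 * r.1 + i < 36 → (entries.getD j.1 []).getD (6 * r.1 + i) 0 % 4 =
        (entries.getD j.1 []).getD (6 * r.1 + i) 0 :=
      fun i hi => Nat.mod_eq_of_lt (entries_lt j ⟨_, hi⟩)
    have := r.2
    simp only [Fin.val_zero, Fin.val_one, Fin.val_two]
    show Nat.xor _ _ = _
    simp only [xor_eq]
    rw [show Nat.mod ((entries.getD j.1 []).getD (6 * r.1 + 0) 0) 4 = _ from hm 0 (by omega)]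
    rw [show Nat.mod ((entries.getD j.1 []).getD (6 * r.1 + 1) 0) 4 = _ from hm 1 (by omega)]
    rw [show Nat.mod ((entries.getD j.1 []).getD (6 * r.1 + 2) 0) 4 = _ from hm 2 (by omega)]
    rw [show Nat.mod ((entries.getD j.1 []).getD (6 * r.1 + ((3 : Fin 6) : ℕ)) 0) 4 = _ from hm 3 (by omega)]
    rw [show Nat.mod ((entries.getD j.1 []).getD (6 * r.1 + ((4 : Fin 6) : ℕ)) 0) 4 = _ from hm 4 (by omega)]
    rw [show Nat.mod ((entries.getD j.1 []).getD (6 * r.1 + ((5 : Fin 6) : ℕ)) 0) 4 = _ from hm 5 (by omega)]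
    rfl
  show ptN (code (mat j.1 *ᵥ rep p)) = _
  simp only [code, hr]
  rfl

theorem card_PSU : Nat.card (Cfsg.PSU 6 F4 2) = 9196830720 := by
  have h := Herm.card_psu (n := 6) hF (by omega)
  norm_num [Finset.prod_Icc_succ_top, Finset.prod_range_succ] at h
  omega

instance instFiniteSU6 : Finite SU6 := inferInstance

theorem card_center : Nat.card (Subgroup.center SU6) = 3 := by
  rw [Herm.card_center_su hF (by omega : 3 ≤ 6)]
  rfl

theorem u0_center : u 0 ∈ Subgroup.center SU6 := by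
  rw [Subgroup.mem_center_iff]
  intro A
  refine Subtype.ext (Subtype.ext ?_)
  show mtx A * mat 0 = mat 0 * mtx A
  rw [show mat 0 = (fOf 2) • (1 : Matrix (Fin 6) (Fin 6) F4) by decide +kernel]
  simp

theorem u0_order : orderOf (u 0) = 3 := by
  haveI : Fact (Nat.Prime 3) := ⟨Nat.prime_three⟩
  refine orderOf_eq_prime ?_ ?_
  · refine Subtype.ext (Subtype.ext ?_)
    show mtx (u 0 ^ 3) = 1
    rw [show u 0 ^ 3 = u 0 * u 0 * u 0 by rw [pow_succ, pow_two], mtx_mul, mtx_mul]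
    show mat 0 * mat 0 * mat 0 = 1
    decide +kernel
  · intro h
    exact absurd (show mat 0 = 1 from congrArg mtx h) (by decide +kernel)

theorem center_le_ker : Subgroup.center SU6 ≤ ρ.ker := by
  have h0 : Subgroup.zpowers (u 0) = Subgroup.center SU6 :=
    Subgroup.eq_of_le_of_card_ge (Subgroup.zpowers_le.mpr u0_center)
      (by rw [card_center, Nat.card_zpowers, u0_order])
  rw [← h0, Subgroup.zpowers_le, MonoidHom.mem_ker]
  refine Equiv.ext fun p => Fin.ext ?_
  rw [ρ_u]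
  exact (by decide +kernel : ∀ p : Fin 693, act hTable (0 : Fin 10).1 p.1 = p.1) p

theorem range_bound : 9196830720 ≤ Nat.card ρ.range := by
  refine Base.lower (Equiv.Perm (Fin 693)) inferInstance (MonoidHom.id _) ρ.range inferInstance fun j hj => ?_
  have hj : j < 10 := hj
  exact ⟨ρ (u ⟨j, hj⟩), ⟨_, rfl⟩, ρ_u ⟨j, hj⟩⟩

/-- The action of the simple quotient. -/
noncomputable def ρbar : Cfsg.PSU 6 F4 2 →* Equiv.Perm (Fin 693) :=
  QuotientGroup.lift (Subgroup.center SU6) ρ center_le_ker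

theorem ρbar_mk (A : SU6) : ρbar (QuotientGroup.mk A) = ρ A := rfl

theorem ρbar_injective : Function.Injective ρbar := by
  haveI : IsSimpleGroup (Cfsg.PSU 6 F4 2) := Herm.isSimpleGroup_psu hF (by omega) (by omega)
  rw [← MonoidHom.ker_eq_bot_iff]
  rcases (MonoidHom.normal_ker ρbar).eq_bot_or_eq_top with h | h
  · exact h
  · exfalso
    have hr : ρ.range = ⊥ := by
      rw [eq_bot_iff]
      rintro _ ⟨A, rfl⟩
      rw [Subgroup.mem_bot, ← ρbar_mk, ← MonoidHom.mem_ker, h]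
      exact Subgroup.mem_top _
    have hb := range_bound
    rw [hr, Subgroup.card_bot] at hb
    omega

/-- A homomorphism hitting the generators is onto. -/
theorem surjective_of_hits {N : Type*} [Group N] (f : N →* Cfsg.PSU 6 F4 2)
    (h : ∀ j : Fin 10, ∃ z, f z = QuotientGroup.mk (u j)) : Function.Surjective f := by
  haveI : Finite (Cfsg.PSU 6 F4 2) := inferInstance
  rw [← MonoidHom.range_eq_top]
  refine Subgroup.eq_top_of_le_card _ ?_
  rw [card_PSU]
  refine Base.lower _ inferInstance ρbar f.range inferInstance fun j hj => ?_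
  have hj : j < 10 := hj
  obtain ⟨z, hz⟩ := h ⟨j, hj⟩
  exact ⟨_, ⟨z, hz⟩, fun k => by rw [ρbar_mk]; exact ρ_u ⟨j, hj⟩ k⟩

end CfsgLib.CosetEnum.Fi22U6
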